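import Mathlib.GroupTheory.Transfer
import Mathlib.GroupTheory.PGroup
import Mathlib.GroupTheory.SpecificGroups.Cyclic
import Mathlib.GroupTheory.GroupAction.ConjAct
import Mathlib.Algebra.Group.ConjFinite
import Cfsg.Agent.Lib.Solvable.Core

/-!
# Groups with a self-centralizing element of prime order
-/

set_option autoImplicit false

namespace CfsgLib.SelfCentPrime

open Subgroup
open scoped Classical commutatorElement

variable {G : Type*} [Group G] [Finite G] {p : ℕ} [Fact p.Prime] {x : G}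

/-- The standing hypothesis. -/
structure Hyp (p : ℕ) (x : G) : Prop where
  ord : orderOf x = p
  cent : Subgroup.centralizer ({x} : Set G) = Subgroup.zpowers x

variable (h : Hyp p x)

include h

theorem card_zpowers' : Nat.card (zpowers x) = p := by rw [Nat.card_zpowers, h.ord]

theorem mem_of_commute {g : G} (hg : g * x = x * g) : g ∈ zpowers x := by
  rw [← h.cent, mem_centralizer_singleton_iff]; exact hg

theorem not_sq_dvd : ¬ p ^ 2 ∣ Nat.card G := by
  intro hd
  have hp : p.Prime := Fact.out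
  obtain ⟨H, hH, hle⟩ := Sylow.exists_subgroup_card_pow_prime_le p hd (zpowers x)
    (by rw [card_zpowers' h, pow_one]) (by omega : 1 ≤ 2)
  have hcomm : ∀ a b : H, a * b = b * a :=
    IsPGroup.commutative_of_card_eq_prime_sq hH
  have hsub : H ≤ zpowers x := fun a ha =>
    mem_of_commute h (congrArg Subtype.val (hcomm ⟨a, ha⟩ ⟨x, hle (mem_zpowers x)⟩))
  have := Subgroup.card_dvd_of_le hsub
  rw [hH, card_zpowers' h] at this
  exact absurd (Nat.le_of_dvd hp.pos this) (not_le.2 (by nlinarith [hp.two_le]))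

theorem sylow_card (P : Sylow p G) : Nat.card P = p := by
  rw [Sylow.card_eq_multiplicity]
  have hd : p ∣ Nat.card G := h.ord ▸ orderOf_dvd_natCard x
  have h1 : 1 ≤ (Nat.card G).factorization p :=
    Nat.Prime.factorization_pos_of_dvd Fact.out Nat.card_pos.ne' hd
  have h2 : (Nat.card G).factorization p < 2 := by
    by_contra hlt
    exact not_sq_dvd h
      ((Nat.Prime.pow_dvd_iff_le_factorization Fact.out Nat.card_pos.ne').2 (by omega))
  have h3 : (Nat.card G).factorization p = 1 := by omega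
  rw [h3, pow_one]

/-- The Sylow subgroup generated by `x`. -/
noncomputable def sylow : Sylow p G :=
  Sylow.ofCard (zpowers x) (by
    rw [card_zpowers' h]
    obtain ⟨P⟩ : Nonempty (Sylow p G) := inferInstance
    exact (sylow_card h P).symm.trans P.card_eq_multiplicity)

@[simp] theorem coe_sylow : (sylow h : Subgroup G) = zpowers x := rfl

theorem exists_sylow_eq {H : Subgroup G} (hH : Nat.card H = p) :
    ∃ P : Sylow p G, (P : Subgroup G) = H := by
  obtain ⟨P, hP⟩ := (IsPGroup.of_card (p := p) (n := 1) (by rw [hH, pow_one] : Nat.card H = p ^ 1)).exists_le_sylow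
  exact ⟨P, (eq_of_le_of_card_ge hP (by rw [sylow_card h P, hH])).symm⟩

/-- Every subgroup of order `p` is conjugate to the one generated by `x`. -/
theorem exists_conj_eq {H : Subgroup G} (hH : Nat.card H = p) :
    ∃ g : G, (zpowers x).map (MulAut.conj g).toMonoidHom = H := by
  obtain ⟨P, rfl⟩ := exists_sylow_eq h hH
  obtain ⟨g, hg⟩ := MulAction.exists_smul_eq G (sylow h) P
  refine ⟨g, ?_⟩
  rw [← hg, Sylow.coe_subgroup_smul, coe_sylow]
  rfl

theorem card_order_p_subgroups :
    Nat.card {H : Subgroup G // Nat.card H = p} = Nat.card (Sylow p G) := by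
  refine Nat.card_congr (Equiv.ofBijective
    (fun P : Sylow p G => (⟨(P : Subgroup G), sylow_card h P⟩ : {H : Subgroup G // Nat.card H = p}))
    ⟨fun P Q hPQ => Sylow.ext (congrArg Subtype.val hPQ), fun H => ?_⟩).symm
  obtain ⟨P, hP⟩ := exists_sylow_eq h H.2
  exact ⟨P, Subtype.ext hP⟩

/-- Any element of order `p` is conjugate to a nontrivial power of `x`, and has centralizer of
order `p`. -/
theorem card_centralizer_of_order {y : G} (hy : orderOf y = p) :
    Nat.card (centralizer ({y} : Set G)) = p := by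
  obtain ⟨g, hg⟩ := exists_conj_eq h (by rw [Nat.card_zpowers, hy] : Nat.card (zpowers y) = p)
  have h3 : centralizer ({y} : Set G) =
      (centralizer ({x} : Set G)).map (MulAut.conj g).toMonoidHom := by
    rw [← centralizer_closure, ← zpowers_eq_closure, ← hg, MonoidHom.map_zpowers,
      zpowers_eq_closure, centralizer_closure]
    ext w
    simp only [mem_centralizer_singleton_iff, Subgroup.mem_map]
    constructor
    · intro hw
      refine ⟨(MulAut.conj g).symm w, ?_, (MulAut.conj g).apply_symm_apply w⟩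
      apply (MulAut.conj g).injective
      rw [map_mul, map_mul, MulEquiv.apply_symm_apply]
      exact hw
    · rintro ⟨v, hv, rfl⟩
      simp only [MulEquiv.coe_toMonoidHom, ← map_mul, hv]
  rw [h3, Nat.card_congr (equivMapOfInjective _ (MulAut.conj g).toMonoidHom
    (MulAut.conj g).injective).toEquiv.symm, h.cent, card_zpowers' h]

theorem conj_mem_zpowers {n : G} (hn : n ∈ normalizer ((zpowers x : Subgroup G) : Set G)) :
    ∃ i : ℤ, x ^ i = n * x * n⁻¹ :=
  mem_zpowers_iff.1 ((mem_normalizer_iff.1 hn x).1 (mem_zpowers x))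

theorem comm_mem_zpowers {n m : G} (hn : n ∈ normalizer ((zpowers x : Subgroup G) : Set G))
    (hm : m ∈ normalizer ((zpowers x : Subgroup G) : Set G)) :
    ⁅n, m⁆ ∈ zpowers x := by
  apply mem_of_commute h
  have key : ∀ a ∈ normalizer ((zpowers x : Subgroup G) : Set G),
      ∀ b ∈ normalizer ((zpowers x : Subgroup G) : Set G),
      a * (b * x * b⁻¹) * a⁻¹ = b * (a * x * a⁻¹) * b⁻¹ := by
    intro a ha b hb
    obtain ⟨i, hi⟩ := conj_mem_zpowers h ha
    obtain ⟨j, hj⟩ := conj_mem_zpowers h hb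
    rw [← hj, ← conj_zpow, ← hi, ← zpow_mul, ← conj_zpow, ← hj, ← zpow_mul, mul_comm]
  have hk := key n hn m hm
  have e : ⁅n, m⁆ * x * (⁅n, m⁆)⁻¹ = x := by
    have hk' := key n⁻¹ (inv_mem hn) m⁻¹ (inv_mem hm)
    calc ⁅n, m⁆ * x * (⁅n, m⁆)⁻¹
        = n * (m * (n⁻¹ * (m⁻¹ * x * m⁻¹⁻¹) * n⁻¹⁻¹) * m⁻¹) * n⁻¹ := by
          rw [commutatorElement_def]; group
      _ = n * (m * (m⁻¹ * (n⁻¹ * x * n⁻¹⁻¹) * m⁻¹⁻¹) * m⁻¹) * n⁻¹ := by rw [hk']
      _ = x := by group
  calc ⁅n, m⁆ * x = (⁅n, m⁆ * x * (⁅n, m⁆)⁻¹) * ⁅n, m⁆ := by group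
    _ = x * ⁅n, m⁆ := by rw [e]

/-- A normal subgroup of order divisible by `p` contains the commutator subgroup. -/
theorem commutator_le_of_dvd {S : Subgroup G} [S.Normal] (hS : p ∣ Nat.card S) :
    commutator G ≤ S := by
  obtain ⟨Q⟩ : Nonempty (Sylow p S) := inferInstance
  have hQ : Nat.card ((Q : Subgroup S).map S.subtype) = p := by
    rw [Nat.card_congr (equivMapOfInjective _ _ S.subtype_injective).toEquiv.symm]
    have h1 := Q.dvd_card_of_dvd_card hS
    have h2 : Nat.card Q ∣ p := by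
      obtain ⟨P, hP⟩ := (Q.2.map S.subtype).exists_le_sylow
      have := card_dvd_of_le hP
      rwa [sylow_card h P,
        Nat.card_congr (equivMapOfInjective _ _ S.subtype_injective).toEquiv.symm] at this
    exact Nat.dvd_antisymm h2 h1
  have hx : zpowers x ≤ S := by
    obtain ⟨g, hg⟩ := exists_conj_eq h hQ
    intro y hy
    have h1 : g * y * g⁻¹ ∈ S := by
      have : g * y * g⁻¹ ∈ (Q : Subgroup S).map S.subtype := by
        rw [← hg]; exact ⟨y, hy, rfl⟩
      exact map_subtype_le _ this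
    simpa [mul_assoc] using ‹S.Normal›.conj_mem _ h1 g⁻¹
  let P : Sylow p S := Sylow.ofCard ((zpowers x).subgroupOf S) (by
    rw [Nat.card_congr (subgroupOfEquivOfLe hx).toEquiv, card_zpowers' h]
    exact hQ.symm.trans ((Nat.card_congr
      (equivMapOfInjective _ _ S.subtype_injective).toEquiv.symm).trans Q.card_eq_multiplicity))
  have htop := Sylow.normalizer_sup_eq_top P
  have hP : ((P : Subgroup S).map S.subtype) = zpowers x := by
    show ((zpowers x).subgroupOf S).map S.subtype = _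
    rw [subgroupOf_map_subtype, inf_eq_left.2 hx]
  rw [hP] at htop
  rw [_root_.commutator_def, Subgroup.commutator_le]
  intro a _ b _
  rw [← QuotientGroup.eq_one_iff, ← QuotientGroup.mk'_apply, map_commutatorElement]
  have key : ∀ a : G, ∃ n ∈ normalizer ((zpowers x : Subgroup G) : Set G),
      QuotientGroup.mk' S a = QuotientGroup.mk' S n := by
    intro a
    have ha : a ∈ normalizer ((zpowers x : Subgroup G) : Set G) ⊔ S := by rw [htop]; trivial
    rw [← SetLike.mem_coe, Subgroup.mul_normal] at ha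
    obtain ⟨n, hn, s, hs, rfl⟩ := ha
    refine ⟨n, hn, ?_⟩
    rw [map_mul, QuotientGroup.mk'_apply S s, (QuotientGroup.eq_one_iff s).2 hs, mul_one]
  obtain ⟨n, hn, hn'⟩ := key a
  obtain ⟨m, hm, hm'⟩ := key b
  rw [hn', hm', ← map_commutatorElement, QuotientGroup.mk'_apply, QuotientGroup.eq_one_iff]
  exact hx (comm_mem_zpowers h hn hm)

theorem eq_one_of_mem {S : Subgroup G} (hS : ¬ p ∣ Nat.card S) {s : G} (hs : s ∈ S)
    (hsx : s ∈ zpowers x) : s = 1 := by
  rw [← orderOf_eq_one_iff]
  have h2 : orderOf s ∣ p := card_zpowers' h ▸ Subgroup.orderOf_dvd_natCard _ hsx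
  refine ((Nat.dvd_prime Fact.out).1 h2).resolve_right fun h3 => hS ?_
  exact h3 ▸ Subgroup.orderOf_dvd_natCard _ hs

/-- In a normal `p'`-subgroup every element is a commutator with `x`. -/
theorem exists_commutator {S : Subgroup G} [S.Normal] (hS : ¬ p ∣ Nat.card S) {u : G}
    (hu : u ∈ S) : ∃ s ∈ S, s⁻¹ * x * s * x⁻¹ = u := by
  have hmem : ∀ s ∈ S, s⁻¹ * x * s * x⁻¹ ∈ S := fun s hs => by
    rw [show s⁻¹ * x * s * x⁻¹ = s⁻¹ * (x * s * x⁻¹) by group]
    exact mul_mem (inv_mem hs) (‹S.Normal›.conj_mem s hs x)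
  let f : S → S := fun s => ⟨_, hmem s s.2⟩
  have hf : Function.Injective f := by
    intro a b hab
    have h1 : (a : G)⁻¹ * x * a * x⁻¹ = (b : G)⁻¹ * x * b * x⁻¹ := congrArg Subtype.val hab
    have h2 : ((b : G) * (a : G)⁻¹) * x = x * ((b : G) * (a : G)⁻¹) := by
      calc ((b : G) * (a : G)⁻¹) * x
          = (b : G) * ((a : G)⁻¹ * x * a * x⁻¹) * x * (a : G)⁻¹ := by group
        _ = x * ((b : G) * (a : G)⁻¹) := by rw [h1]; group
    have h3 := eq_one_of_mem h hS (mul_mem b.2 (inv_mem a.2)) (mem_of_commute h h2)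
    exact Subtype.ext (mul_inv_eq_one.1 h3).symm
  obtain ⟨s, hs⟩ := (Finite.injective_iff_surjective.1 hf) ⟨u, hu⟩
  exact ⟨s, s.2, congrArg Subtype.val hs⟩

theorem le_commutator {S : Subgroup G} [S.Normal] (hS : ¬ p ∣ Nat.card S) : S ≤ commutator G := by
  intro u hu
  obtain ⟨s, -, rfl⟩ := exists_commutator h hS hu
  rw [show s⁻¹ * x * s * x⁻¹ = ⁅s⁻¹, x⁆ by rw [commutatorElement_def]; group, _root_.commutator_def]
  exact commutator_mem_commutator (mem_top _) (mem_top _)

theorem card_mod_p {S : Subgroup G} [S.Normal] (hS : ¬ p ∣ Nat.card S) :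
    Nat.card S % p = 1 := by
  letI : MulAction (zpowers x) S := MulAction.compHom S
    ((MulAut.conjNormal : G →* MulAut S).comp (zpowers x).subtype)
  have hP : IsPGroup p (zpowers x) := (sylow h).2
  have hfix : MulAction.fixedPoints (zpowers x) S = {1} := by
    ext s
    simp only [MulAction.mem_fixedPoints, Set.mem_singleton_iff]
    constructor
    · intro hs
      have h1 := congrArg Subtype.val (hs ⟨x, mem_zpowers x⟩)
      change x * (s : G) * x⁻¹ = s at h1
      exact Subtype.ext (eq_one_of_mem h hS s.2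
        (mem_of_commute h (mul_inv_eq_iff_eq_mul.1 h1).symm))
    · rintro rfl g
      show (MulAut.conjNormal (g : G) : MulAut S) 1 = 1
      exact map_one _
  have := hP.card_modEq_card_fixedPoints S
  rw [hfix, Nat.ModEq] at this
  rw [this]
  simp [Nat.one_mod_eq_one.2 (Fact.out : p.Prime).ne_one]

theorem normalizer_inf_eq_bot {S : Subgroup G} [S.Normal] (hS : ¬ p ∣ Nat.card S) :
    normalizer ((zpowers x : Subgroup G) : Set G) ⊓ S = ⊥ := by
  rw [eq_bot_iff]
  rintro s ⟨hsn, hsS⟩
  obtain ⟨i, hi⟩ := conj_mem_zpowers h hsn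
  have hc : s * x * s⁻¹ * x⁻¹ ∈ zpowers x := by
    rw [← hi]; exact mul_mem (zpow_mem_zpowers x i) (inv_mem (mem_zpowers x))
  have hcS : s * x * s⁻¹ * x⁻¹ ∈ S := by
    rw [show s * x * s⁻¹ * x⁻¹ = s * (x * s⁻¹ * x⁻¹) by group]
    exact mul_mem hsS (‹S.Normal›.conj_mem _ (inv_mem hsS) x)
  exact eq_one_of_mem h hS hsS (mem_of_commute h
    (mul_inv_eq_iff_eq_mul.1 (mul_inv_eq_one.1 (eq_one_of_mem h hS hcS hc))))

theorem card_mul_normalizer_dvd {S : Subgroup G} [S.Normal] (hS : ¬ p ∣ Nat.card S) :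
    Nat.card S * Nat.card (normalizer ((zpowers x : Subgroup G) : Set G)) ∣ Nat.card G := by
  set N := normalizer ((zpowers x : Subgroup G) : Set G)
  have hinj : Function.Injective ((QuotientGroup.mk' S).comp N.subtype) := by
    rw [← MonoidHom.ker_eq_bot_iff, eq_bot_iff]
    intro n hn
    have hn' : (n : G) ∈ S := (QuotientGroup.eq_one_iff _).1 hn
    have : (n : G) ∈ (⊥ : Subgroup G) := normalizer_inf_eq_bot h hS ▸ ⟨n.2, hn'⟩
    exact Subgroup.mem_bot.2 (Subtype.ext (Subgroup.mem_bot.1 this))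
  have h1 : Nat.card N ∣ Nat.card (G ⧸ S) :=
    Subgroup.card_dvd_of_injective _ hinj
  rw [Subgroup.card_eq_card_quotient_mul_card_subgroup S, mul_comm (Nat.card (G ⧸ S))]
  exact mul_dvd_mul_left _ h1

theorem card_dvd_card_sylow {S : Subgroup G} [S.Normal] (hS : ¬ p ∣ Nat.card S) :
    Nat.card S ∣ Nat.card (Sylow p G) := by
  rw [(sylow h).card_eq_index_normalizer]
  show Nat.card S ∣ (normalizer ((zpowers x : Subgroup G) : Set G)).index
  have h1 := card_mul_normalizer_dvd h hS
  rw [← (normalizer ((zpowers x : Subgroup G) : Set G)).card_mul_index,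
    mul_comm (Nat.card S)] at h1
  exact Nat.dvd_of_mul_dvd_mul_left Nat.card_pos h1

/-- The image of `x` in the quotient by a normal `p'`-subgroup satisfies the same hypothesis. -/
theorem quotient {S : Subgroup G} [S.Normal] (hS : ¬ p ∣ Nat.card S) :
    orderOf (QuotientGroup.mk x : G ⧸ S) = p ∧
      centralizer ({(QuotientGroup.mk x : G ⧸ S)} : Set (G ⧸ S)) =
        zpowers (QuotientGroup.mk x : G ⧸ S) := by
  refine ⟨?_, le_antisymm ?_ ?_⟩
  · have h1 : orderOf (QuotientGroup.mk x : G ⧸ S) ∣ p :=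
      h.ord ▸ orderOf_map_dvd (QuotientGroup.mk' S) x
    refine ((Nat.dvd_prime Fact.out).1 h1).resolve_left fun h2 => ?_
    have hx : x ∈ S := (QuotientGroup.eq_one_iff x).1 (orderOf_eq_one_iff.1 h2)
    exact hS (h.ord ▸ Subgroup.orderOf_dvd_natCard _ hx)
  · intro g' hg
    obtain ⟨g, rfl⟩ := QuotientGroup.mk_surjective g'
    rw [mem_centralizer_singleton_iff, ← QuotientGroup.mk_mul, ← QuotientGroup.mk_mul] at hg
    have hu : g * x * g⁻¹ * x⁻¹ ∈ S := by
      rw [← QuotientGroup.eq_one_iff]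
      rw [show g * x * g⁻¹ * x⁻¹ = (g * x) * (x * g)⁻¹ by group, QuotientGroup.mk_mul,
        QuotientGroup.mk_inv, hg, mul_inv_cancel]
    obtain ⟨s, hs, hsu⟩ := exists_commutator h hS hu
    have hc : s * g ∈ zpowers x := by
      apply mem_of_commute h
      have h1 : g * x * g⁻¹ = s⁻¹ * x * s := by
        have := congrArg (· * x) hsu.symm
        simpa [mul_assoc] using this
      calc s * g * x = s * (g * x * g⁻¹) * g := by group
        _ = x * (s * g) := by rw [h1]; group
    obtain ⟨i, hi⟩ := mem_zpowers_iff.1 hc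
    refine mem_zpowers_iff.2 ⟨i, ?_⟩
    rw [← QuotientGroup.mk_zpow, hi, QuotientGroup.mk_mul, (QuotientGroup.eq_one_iff s).2 hs,
      one_mul]
  · rw [zpowers_le, mem_centralizer_singleton_iff]

/-- The index of `⟨x⟩` in its normalizer. -/
noncomputable def autIndex (_h : Hyp p x) : ℕ :=
  (zpowers x).relIndex (normalizer ((zpowers x : Subgroup G) : Set G))

theorem card_normalizer :
    Nat.card (normalizer ((zpowers x : Subgroup G) : Set G)) = p * autIndex h := by
  rw [autIndex, ← card_zpowers' h, ← relIndex_bot_left, ← relIndex_bot_left,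
    relIndex_mul_relIndex _ _ _ bot_le le_normalizer]
end CfsgLib.SelfCentPrime
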