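import Cfsg.Agent.Lib.SelfCentPrime.Basic

/-!
# Classes of elements of order p and the commutator subgroup
-/

set_option autoImplicit false

namespace CfsgLib.SelfCentPrime

open Subgroup
open scoped Classical commutatorElement

variable {G : Type*} [Group G] [Finite G] {p : ℕ} [Fact p.Prime] {x : G} (h : Hyp p x)

include h

theorem autIndex_pos : 0 < autIndex h := by
  refine Nat.pos_of_ne_zero fun h0 => ?_
  have := card_normalizer h
  rw [h0, mul_zero] at this
  exact Nat.card_pos.ne' this

theorem card_sylow_mul : Nat.card (Sylow p G) * (p * autIndex h) = Nat.card G := by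
  rw [(sylow h).card_eq_index_normalizer, ← card_normalizer h, mul_comm]
  exact (normalizer ((zpowers x : Subgroup G) : Set G)).card_mul_index

theorem card_order_eq :
    Nat.card {g : G // orderOf g = p} = Nat.card (Sylow p G) * (p - 1) := by
  have hp : p.Prime := Fact.out
  haveI := Fintype.ofFinite (Sylow p G)
  have hcard : ∀ Q : Sylow p G, Nat.card {u : ↥(Q : Subgroup G) // u ≠ 1} = p - 1 := by
    intro Q
    have := Fintype.ofFinite ↥(Q : Subgroup G)
    rw [Nat.card_eq_fintype_card, Fintype.card_subtype_compl, Fintype.card_subtype_eq,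
      ← Nat.card_eq_fintype_card, sylow_card h Q]
  have hord : ∀ (Q : Sylow p G) (u : ↥(Q : Subgroup G)), u ≠ 1 → orderOf (u : G) = p := by
    intro Q u hu
    have hd := Subgroup.orderOf_dvd_natCard _ u.2
    rw [sylow_card h Q] at hd
    exact ((Nat.dvd_prime hp).1 hd).resolve_left
      (fun h1 => hu (Subtype.ext (orderOf_eq_one_iff.1 h1)))
  have hgen : ∀ (Q : Sylow p G) (y : G), orderOf y = p → y ∈ (Q : Subgroup G) →
      zpowers y = (Q : Subgroup G) := by
    intro Q y hy hyQ
    exact eq_of_le_of_card_ge (zpowers_le.2 hyQ) (by rw [Nat.card_zpowers, hy, sylow_card h Q])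
  let e : (Σ Q : Sylow p G, {u : ↥(Q : Subgroup G) // u ≠ 1}) → {g : G // orderOf g = p} :=
    fun s => ⟨(s.2.1 : G), hord s.1 s.2.1 s.2.2⟩
  have he : Function.Bijective e := by
    constructor
    · rintro ⟨Q, ⟨⟨u, hu⟩, hu1⟩⟩ ⟨R, ⟨⟨v, hv⟩, hv1⟩⟩ huv
      have huv' : u = v := congrArg Subtype.val huv
      subst huv'
      have ho := hord Q ⟨u, hu⟩ hu1
      obtain rfl : Q = R := Sylow.ext ((hgen Q u ho hu).symm.trans (hgen R u ho hv))
      rfl
    · rintro ⟨y, hy⟩
      obtain ⟨Q, hQ⟩ := exists_sylow_eq h (by rw [Nat.card_zpowers, hy] : Nat.card (zpowers y) = p)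
      refine ⟨⟨Q, ⟨⟨y, hQ ▸ mem_zpowers y⟩, fun h1 => ?_⟩⟩, rfl⟩
      have : y = 1 := congrArg Subtype.val h1
      rw [this, orderOf_one] at hy
      exact hp.one_lt.ne hy
  rw [← Nat.card_eq_of_bijective e he, Nat.card_sigma, Finset.sum_congr rfl (fun Q _ => hcard Q)]
  simp [Nat.card_eq_fintype_card]

theorem card_classes_mul_autIndex :
    Nat.card {C : ConjClasses G // ∃ g ∈ C.carrier, orderOf g = p} * autIndex h = p - 1 := by
  have hp : p.Prime := Fact.out
  let T := {C : ConjClasses G // ∃ g ∈ C.carrier, orderOf g = p}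
  let S := {g : G // orderOf g = p}
  let k : S → T := fun s => ⟨ConjClasses.mk s.1, s.1, ConjClasses.mem_carrier_mk, s.2⟩
  haveI := Fintype.ofFinite T
  have hfib : ∀ c : T, p * Nat.card {s : S // k s = c} = Nat.card G := by
    rintro ⟨c, g, hgc, hg⟩
    rw [ConjClasses.mem_carrier_iff_mk_eq] at hgc
    subst hgc
    rw [← (centralizer ({g} : Set G)).card_mul_index, card_centralizer_of_order h hg]
    congr 1
    have hord : ∀ y : G, IsConj g y → orderOf y = p := by
      intro y hy
      obtain ⟨a, ha⟩ := isConj_iff.1 hy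
      rw [← ha, show a * g * a⁻¹ = MulAut.conj a g from rfl, MulEquiv.orderOf_eq, hg]
    have e : {s : S // k s = ⟨ConjClasses.mk g, g, ConjClasses.mem_carrier_mk, hg⟩} ≃
        MulAction.orbit (ConjAct G) g :=
      ⟨fun s => ⟨s.1.1, ConjAct.mem_orbit_conjAct.2 (ConjClasses.mk_eq_mk_iff_isConj.1
          (congrArg Subtype.val s.2))⟩,
        fun y => ⟨⟨y.1, hord y.1 (ConjAct.mem_orbit_conjAct.1 y.2).symm⟩,
          Subtype.ext (ConjClasses.mk_eq_mk_iff_isConj.2 (ConjAct.mem_orbit_conjAct.1 y.2))⟩,
        fun _ => rfl, fun _ => rfl⟩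
    rw [Nat.card_congr e, Nat.card_coe_set_eq, ← MulAction.index_stabilizer,
      ConjAct.stabilizer_eq_centralizer]
    rfl
  have h1 : p * Nat.card S = Nat.card T * Nat.card G := by
    rw [← Nat.card_congr (Equiv.sigmaFiberEquiv k), Nat.card_sigma, Finset.mul_sum,
      Finset.sum_congr rfl (fun c _ => hfib c)]
    simp [Nat.card_eq_fintype_card]
  rw [card_order_eq h, ← card_sylow_mul h] at h1
  have h2 : p * Nat.card (Sylow p G) * (p - 1) =
      p * Nat.card (Sylow p G) * (Nat.card T * autIndex h) := by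
    rw [mul_assoc, h1]; ring
  exact (Nat.eq_of_mul_eq_mul_left (Nat.mul_pos hp.pos Nat.card_pos) h2).symm

theorem zpowers_le_commutator (hq : autIndex h ≠ 1) : zpowers x ≤ commutator G := by
  obtain ⟨n, hn, hnx⟩ : ∃ n ∈ normalizer ((zpowers x : Subgroup G) : Set G), n ∉ zpowers x := by
    by_contra hall
    push Not at hall
    exact hq (relIndex_eq_one.2 hall)
  obtain ⟨i, hi⟩ := conj_mem_zpowers h hn
  set c := n * x * n⁻¹ * x⁻¹ with hc
  have hcz : c ∈ zpowers x := by
    rw [hc, ← hi]; exact mul_mem (zpow_mem_zpowers x i) (inv_mem (mem_zpowers x))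
  have hc1 : c ≠ 1 := by
    intro h1
    exact hnx (mem_of_commute h (mul_inv_eq_iff_eq_mul.1 (mul_inv_eq_one.1 h1)))
  have hcc : c ∈ commutator G := by
    rw [hc, show n * x * n⁻¹ * x⁻¹ = ⁅n, x⁆ by rw [commutatorElement_def], _root_.commutator_def]
    exact commutator_mem_commutator (mem_top _) (mem_top _)
  have heq : zpowers c = zpowers x := by
    refine eq_of_le_of_card_ge (zpowers_le.2 hcz) ?_
    rw [card_zpowers' h, Nat.card_zpowers]
    have hd : orderOf c ∣ p := card_zpowers' h ▸ Subgroup.orderOf_dvd_natCard _ hcz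
    exact (((Nat.dvd_prime Fact.out).1 hd).resolve_left (fun h1 => hc1 (orderOf_eq_one_iff.1 h1))).ge
  rw [← heq]
  exact zpowers_le.2 hcc

theorem dvd_card_commutator (hq : autIndex h ≠ 1) : p ∣ Nat.card (commutator G) :=
  card_zpowers' h ▸ card_dvd_of_le (zpowers_le_commutator h hq)

theorem index_commutator_dvd (hq : autIndex h ≠ 1) : (commutator G).index ∣ autIndex h := by
  set N := normalizer ((zpowers x : Subgroup G) : Set G)
  have hle := zpowers_le_commutator h hq
  let P : Sylow p (commutator G) := Sylow.ofCard ((zpowers x).subgroupOf (commutator G)) (by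
    rw [Nat.card_congr (subgroupOfEquivOfLe hle).toEquiv, card_zpowers' h]
    have h1 : (Nat.card (commutator G)).factorization p = 1 := by
      have h2 : 1 ≤ (Nat.card (commutator G)).factorization p :=
        Nat.Prime.factorization_pos_of_dvd Fact.out Nat.card_pos.ne' (dvd_card_commutator h hq)
      have h3 : (Nat.card (commutator G)).factorization p < 2 := by
        by_contra hlt
        have h4 : p ^ 2 ∣ Nat.card (commutator G) :=
          (Nat.Prime.pow_dvd_iff_le_factorization Fact.out Nat.card_pos.ne').2 (by omega)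
        exact not_sq_dvd h (h4.trans (card_subgroup_dvd_card _))
      omega
    rw [h1, pow_one])
  have htop := Sylow.normalizer_sup_eq_top P
  have hP : ((P : Subgroup (commutator G)).map (commutator G).subtype) = zpowers x := by
    show ((zpowers x).subgroupOf (commutator G)).map (commutator G).subtype = _
    rw [subgroupOf_map_subtype, inf_eq_left.2 hle]
  rw [hP] at htop
  rw [← relIndex_top_right (commutator G), ← htop, relIndex_sup_right]
  exact relIndex_dvd_of_le_left N hle

theorem exists_complement (hq : autIndex h = 1) :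
    ∃ (K : Subgroup G) (_ : K.Normal), K.index = p ∧ ¬ p ∣ Nat.card K ∧ IsCyclic (G ⧸ K) ∧
      commutator G = K := by
  have hle : normalizer ((zpowers x : Subgroup G) : Set G) ≤ zpowers x := relIndex_eq_one.1 hq
  have hP : normalizer ((sylow h : Subgroup G) : Set G) ≤
      centralizer ((sylow h : Subgroup G) : Set G) := by
    refine hle.trans ?_
    intro y hy
    rw [coe_sylow, mem_centralizer_iff]
    intro z hz
    obtain ⟨i, rfl⟩ := mem_zpowers_iff.1 hy
    obtain ⟨j, rfl⟩ := mem_zpowers_iff.1 (show z ∈ zpowers x from hz)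
    exact zpow_mul_comm x j i
  set K := (MonoidHom.transferSylow (sylow h) hP).ker with hK
  have hc : IsComplement' K (sylow h : Subgroup G) := MonoidHom.ker_transferSylow_isComplement' _ hP
  have hidx : K.index = p := by
    rw [hc.symm.index_eq_card, sylow_card h]
  have hnd : ¬ p ∣ Nat.card K := by
    intro hd
    refine not_sq_dvd h ?_
    rw [sq, ← K.card_mul_index, hidx]
    exact mul_dvd_mul_right hd p
  haveI : IsCyclic (G ⧸ K) := isCyclic_of_prime_card (p := p) hidx
  refine ⟨K, inferInstance, hidx, hnd, inferInstance, le_antisymm ?_ (le_commutator h hnd)⟩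
  rw [_root_.commutator_def, Subgroup.commutator_le]
  intro a _ b _
  rw [← QuotientGroup.eq_one_iff, ← QuotientGroup.mk'_apply, map_commutatorElement,
    commutatorElement_eq_one_iff_mul_comm]
  exact IsMulCommutative.is_comm.comm _ _

theorem pPrimeCore_le_commutator : Cfsg.pPrimeCore p G ≤ commutator G :=
  haveI := CfsgLib.Solvable.pPrimeCore_normal p G
  le_commutator h ((Fact.out : p.Prime).coprime_iff_not_dvd.1
    (CfsgLib.Solvable.pPrimeCore_card_coprime p G).symm)

end CfsgLib.SelfCentPrime
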