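import Cfsg.Agent.Lib.SelfCentPrime.Classes
import Cfsg.Agent.Lib.Char.Complete
import Cfsg.Agent.Lib.Char.GaloisConj
import Cfsg.Agent.Lib.Char.Linear
import Mathlib.NumberTheory.LegendreSymbol.AddCharacter
import Mathlib.RingTheory.ZMod.UnitsCyclic

/-!
# Irreducible characters of degree p - 1 for a self-centralizing element of prime order p

Such a character restricts to `⟨x⟩` as the regular character minus the principal one as soon as
`x` is conjugate to its inverse; this is forced by the column orthogonality at `x` applied to the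
distinct Galois conjugates of the character.
-/

set_option autoImplicit false

namespace CfsgLib.SelfCentPrime

open scoped Classical ComplexConjugate
open Finset

universe u

variable {G : Type u} [Group G] [Finite G] {p : ℕ} [hp : Fact p.Prime]

/-- The additive character of `ZMod p` given by a fixed primitive root of unity. -/
noncomputable def stdChar (p : ℕ) [Fact p.Prime] : AddChar (ZMod p) ℂ :=
  AddChar.zmodChar p (Complex.isPrimitiveRoot_exp p (Fact.out : p.Prime).ne_zero).pow_eq_one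

theorem stdChar_isPrimitive : (stdChar p).IsPrimitive :=
  AddChar.zmodChar_primitive_of_primitive_root p (Complex.isPrimitiveRoot_exp p hp.out.ne_zero)

theorem sum_stdChar_mul (i : ZMod p) :
    ∑ a : ZMod p, stdChar p (i * a) = if i = 0 then (p : ℂ) else 0 := by
  rcases eq_or_ne i 0 with rfl | hi
  · simp
  · rw [if_neg hi, ← AddChar.sum_eq_zero_of_ne_one (stdChar_isPrimitive hi)]
    exact Finset.sum_congr rfl fun a _ => rfl

theorem stdChar_pow (i : ZMod p) (n : ℕ) : stdChar p i ^ n = stdChar p (i * n) := by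
  rw [← AddChar.map_nsmul_eq_pow, nsmul_eq_mul, mul_comm]

theorem stdChar_conj (i : ZMod p) : conj (stdChar p i) = stdChar p (-i) := by
  rw [AddChar.map_neg_eq_inv, ← Complex.inv_eq_conj]
  refine Complex.norm_eq_one_of_pow_eq_one (n := p) ?_ hp.out.ne_zero
  rw [stdChar_pow, ZMod.natCast_self, mul_zero, AddChar.map_zero_eq_one]

/-- The multiplicities of the eigenvalues. -/
theorem exists_mult (χ : Cfsg.IrrCharacter G) {x : G} (hx : orderOf x = p) :
    ∃ (n : ℕ) (e : Fin n → ZMod p), (n : ℂ) = (χ : G → ℂ) 1 ∧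
      ∀ j : ℕ, (χ : G → ℂ) (x ^ j) = ∑ k, stdChar p (e k * j) := by
  obtain ⟨m, ρ, -, hρ⟩ := χ.2
  obtain ⟨μ, hμ, -, -, hpow⟩ := CfsgLib.Char.exists_eigenvalues ρ x
  have hex : ∀ k, ∃ i : ZMod p, stdChar p i = μ k := by
    intro k
    obtain ⟨i, -, hi⟩ := (Complex.isPrimitiveRoot_exp p hp.out.ne_zero).eq_pow_of_pow_eq_one
      (show μ k ^ p = 1 by rw [← hx]; exact hμ k)
    refine ⟨(i : ZMod p), ?_⟩
    rw [← hi, stdChar, AddChar.zmodChar_apply']
  choose e he using hex
  refine ⟨_, e, ?_, fun j => ?_⟩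
  · rw [← hρ, Representation.char_one]
  · rw [← hρ, hpow j]
    exact Finset.sum_congr rfl fun k _ => by rw [← he k, stdChar_pow]

/-- Multiplicity of an eigenvalue. -/
noncomputable def mult {n : ℕ} (e : Fin n → ZMod p) (i : ZMod p) : ℕ :=
  (Finset.univ.filter fun k => e k = i).card

theorem sum_mult {n : ℕ} (e : Fin n → ZMod p) : ∑ i, mult e i = n := by
  simp only [mult]
  rw [Finset.sum_card_fiberwise_eq_card_filter]
  simp

theorem mult_eq_of_eq {n : ℕ} (e : Fin n → ZMod p) {a b : ZMod p} (ha : a ≠ 0) (hb : b ≠ 0)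
    (h : ∀ c, ∑ k, stdChar p (e k * (a * c)) = ∑ k, stdChar p (e k * (b * c))) (i : ZMod p) :
    mult e (i / a) = mult e (i / b) := by
  have key : ∀ a : ZMod p, a ≠ 0 →
      ∑ c, (∑ k, stdChar p (e k * (a * c))) * stdChar p (-(i * c)) =
        (p : ℂ) * mult e (i / a) := by
    intro a ha
    simp_rw [Finset.sum_mul, ← AddChar.map_add_eq_mul]
    rw [Finset.sum_comm]
    have : ∀ k, ∑ c, stdChar p (e k * (a * c) + -(i * c)) = if e k = i / a then (p : ℂ) else 0 := by
      intro k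
      rw [← if_congr (show e k * a - i = 0 ↔ e k = i / a by
        rw [sub_eq_zero, eq_div_iff ha]) rfl rfl, ← sum_stdChar_mul]
      exact Finset.sum_congr rfl fun c _ => congrArg _ (by ring)
    rw [Finset.sum_congr rfl fun k _ => this k, Finset.sum_ite, Finset.sum_const,
      Finset.sum_const_zero, add_zero, mult, nsmul_eq_mul, mul_comm]
  have h1 := key a ha
  rw [Finset.sum_congr rfl fun c _ => by rw [h c], key b hb] at h1
  have h2 : (mult e (i / b) : ℂ) = (mult e (i / a) : ℂ) :=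
    mul_left_cancel₀ (Nat.cast_ne_zero.2 hp.out.ne_zero) h1
  exact_mod_cast h2.symm

theorem sum_normSq {n : ℕ} (e : Fin n → ZMod p) :
    ∑ a : ZMod p, Complex.normSq (∑ k, stdChar p (e k * a)) =
      (p : ℝ) * ∑ i, ((mult e i : ℝ)) ^ 2 := by
  apply Complex.ofReal_injective
  push_cast
  simp_rw [Complex.normSq_eq_conj_mul_self, map_sum, stdChar_conj, Finset.sum_mul, Finset.mul_sum,
    ← AddChar.map_add_eq_mul]
  rw [Finset.sum_comm]
  have : ∀ k, ∑ a, ∑ l, stdChar p (-(e k * a) + e l * a) = (p : ℂ) * mult e (e k) := by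
    intro k
    rw [Finset.sum_comm]
    have h1 : ∀ l, ∑ a, stdChar p (-(e k * a) + e l * a) = if e l = e k then (p : ℂ) else 0 := by
      intro l
      rw [← if_congr (sub_eq_zero (a := e l) (b := e k)) rfl rfl, ← sum_stdChar_mul]
      exact Finset.sum_congr rfl fun a _ => congrArg _ (by ring)
    rw [Finset.sum_congr rfl fun l _ => h1 l, Finset.sum_ite, Finset.sum_const,
      Finset.sum_const_zero, add_zero, mult, nsmul_eq_mul, mul_comm]
  rw [Finset.sum_congr rfl fun k _ => this k,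
    ← Finset.sum_fiberwise Finset.univ e (fun k => (p : ℂ) * mult e (e k))]
  refine Finset.sum_congr rfl fun i _ => ?_
  rw [Finset.sum_congr rfl (g := fun _ => (p : ℂ) * mult e i)
    fun k hk => by rw [(Finset.mem_filter.1 hk).2], Finset.sum_const, nsmul_eq_mul]
  simp only [mult]
  ring

/-- An exponent prime to the group order with prescribed nonzero residue modulo `p`. -/
theorem exists_coprime_residue (hsq : ¬ p ^ 2 ∣ Nat.card G) (hdvd : p ∣ Nat.card G) {a : ZMod p}
    (ha : a ≠ 0) : ∃ k : ℕ, k.Coprime (Nat.card G) ∧ (k : ZMod p) = a := by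
  obtain ⟨m, hm⟩ := hdvd
  have hcop : Nat.Coprime p m := hp.out.coprime_iff_not_dvd.2 fun hd => hsq (by
    rw [hm, sq]; exact mul_dvd_mul_left p hd)
  obtain ⟨k, hk1, hk2⟩ := Nat.chineseRemainder hcop a.val 1
  have hka : (k : ZMod p) = a := by
    rw [(ZMod.natCast_eq_natCast_iff _ _ _).2 hk1, ZMod.natCast_zmod_val]
  refine ⟨k, ?_, hka⟩
  rw [hm]
  refine Nat.Coprime.mul_right (Nat.Coprime.symm (hp.out.coprime_iff_not_dvd.2 fun hd => ha ?_)) ?_
  · rw [← hka, (ZMod.natCast_eq_zero_iff _ _).2 hd]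
  · have := Nat.ModEq.gcd_eq hk2
    simpa [Nat.coprime_iff_gcd_eq_one] using this

/-- The restriction to `⟨x⟩` of a character of degree `p - 1`. -/
theorem mult_eq_one (hp2 : p ≠ 2) {x : G} (h : Hyp p x) (hinv : IsConj x x⁻¹)
    (χ : Cfsg.IrrCharacter G) (hχ : (χ : G → ℂ) 1 = ((p - 1 : ℕ) : ℂ)) {n : ℕ}
    (e : Fin n → ZMod p) (hn : (n : ℂ) = (χ : G → ℂ) 1)
    (he : ∀ j : ℕ, (χ : G → ℂ) (x ^ j) = ∑ k, stdChar p (e k * j)) :
    mult e 0 = 0 ∧ ∀ i, i ≠ 0 → mult e i = 1 := by
  haveI := Fintype.ofFinite G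
  have hn' : n = p - 1 := by rw [hχ] at hn; exact_mod_cast hn
  have h2 : 2 < p := lt_of_le_of_ne hp.out.two_le (Ne.symm hp2)
  have hf : ∀ c : ZMod p, (χ : G → ℂ) (x ^ c.val) = ∑ k, stdChar p (e k * c) := by
    intro c; rw [he, ZMod.natCast_zmod_val]
  have hxmod : ∀ j : ℕ, x ^ j = x ^ (j : ZMod p).val := by
    intro j
    rw [ZMod.val_natCast, ← h.ord, pow_mod_orderOf]
  -- symmetry under negation
  have hsym : ∀ i, mult e (-i) = mult e i := by
    intro i
    have key := mult_eq_of_eq e (a := -1) (b := 1) (neg_ne_zero.2 one_ne_zero) one_ne_zero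
      (fun c => by
        rw [← hf, ← hf, one_mul, neg_one_mul]
        have h1 : x ^ (-c).val = (x ^ c.val)⁻¹ := by
          rw [eq_inv_iff_mul_eq_one, ← pow_add, hxmod]
          have h0 : ((((-c).val + c.val : ℕ)) : ZMod p) = 0 := by
            rw [Nat.cast_add, ZMod.natCast_zmod_val, ZMod.natCast_zmod_val, neg_add_cancel]
          rw [h0, ZMod.val_zero, pow_zero]
        rw [h1, ← inv_pow]
        obtain ⟨g, hg⟩ := isConj_iff.1 hinv
        rw [← hg, conj_pow]
        exact CfsgLib.Char.IsIrrCharacter.isClassFunction χ.2 _ _) i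
    simpa [div_neg] using key
  set U := (Finset.univ : Finset (ZMod p)).erase 0 with hU
  have hUc : U.card = p - 1 := by simp [hU]
  have hsum : (mult e 0 : ℤ) + ∑ i ∈ U, (mult e i : ℤ) = (p : ℤ) - 1 := by
    rw [Finset.add_sum_erase _ (fun i => (mult e i : ℤ)) (Finset.mem_univ _), ← Nat.cast_sum,
      sum_mult, hn', Nat.cast_sub hp.out.one_le]
    simp
  have heven : Even (∑ i ∈ U, mult e i) := by
    rw [← ZMod.natCast_eq_zero_iff_even, Nat.cast_sum]
    refine Finset.sum_involution (fun i _ => -i) ?_ ?_ ?_ ?_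
    · intro i _
      rw [hsym, ← two_mul, show (2 : ZMod 2) = 0 from rfl, zero_mul]
    · intro i hi _ heq
      have h3 : (2 : ZMod p) * i = 0 := by rw [two_mul]; nth_rw 1 [← heq]; rw [neg_add_cancel]
      rcases mul_eq_zero.1 h3 with h4 | h4
      · rw [show (2 : ZMod p) = ((2 : ℕ) : ZMod p) from by norm_num,
          ZMod.natCast_eq_zero_iff] at h4
        exact hp2 ((Nat.prime_dvd_prime_iff_eq hp.out Nat.prime_two).1 h4)
      · exact (Finset.mem_erase.1 hi).1 h4
    · intro i hi; simp [hU] at hi ⊢; exact hi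
    · intro i _; exact neg_neg i
  have hm0 : mult e 0 ≠ 1 := by
    intro h1
    have hpe : Even (p - 1) := Nat.Odd.sub_odd (hp.out.odd_of_ne_two hp2) odd_one
    obtain ⟨r, hr⟩ := heven
    obtain ⟨s, hs⟩ := hpe
    have h5 : (∑ i ∈ U, (mult e i : ℤ)) = ((∑ i ∈ U, mult e i : ℕ) : ℤ) := by push_cast; rfl
    rw [h5, hr, h1] at hsum
    omega
  suffices hall : ∀ i ∈ U, mult e i = 1 by
    refine ⟨?_, fun i hi => hall i (by simp [hU, hi])⟩
    rw [Finset.sum_congr rfl (fun i hi => by rw [hall i hi]), Finset.sum_const, hUc] at hsum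
    simp [Nat.cast_sub hp.out.one_le] at hsum
    exact_mod_cast (by omega : (mult e 0 : ℤ) = 0)
  by_contra hne
  set W := U.filter fun i => mult e i ≠ 1 with hW
  have hWne : W.Nonempty := by
    push Not at hne
    obtain ⟨i, hi, hi1⟩ := hne
    exact ⟨i, Finset.mem_filter.2 ⟨hi, hi1⟩⟩
  -- Galois conjugates
  have hexp : ∀ a : ZMod p, ∃ k : ℕ, k.Coprime (Nat.card G) ∧ (a ≠ 0 → (k : ZMod p) = a) := by
    intro a
    rcases eq_or_ne a 0 with rfl | ha
    · exact ⟨1, Nat.coprime_one_left _, fun h0 => absurd rfl h0⟩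
    · obtain ⟨k, hk, hka⟩ := exists_coprime_residue (not_sq_dvd h)
        (h.ord ▸ orderOf_dvd_natCard x) ha
      exact ⟨k, hk, fun _ => hka⟩
  choose ex hex hexa using hexp
  let Ψ : ZMod p → Cfsg.IrrCharacter G := fun a => CfsgLib.CharGalois.powIrr (hex a) χ
  have hΨ : ∀ a, a ≠ 0 → ∀ c : ZMod p,
      (Ψ a : G → ℂ) (x ^ c.val) = ∑ k, stdChar p (e k * (a * c)) := by
    intro a ha c
    show (χ : G → ℂ) ((x ^ c.val) ^ ex a) = _
    rw [← pow_mul, he]
    refine Finset.sum_congr rfl fun k _ => congrArg _ ?_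
    rw [Nat.cast_mul, ZMod.natCast_zmod_val, hexa a ha]
    ring
  have hfib : ∀ ψ ∈ U.image Ψ, (U.filter fun a => Ψ a = ψ).card ≤ W.card := by
    intro ψ hψ
    obtain ⟨b, hb, rfl⟩ := Finset.mem_image.1 hψ
    have hb0 := (Finset.mem_erase.1 hb).1
    obtain ⟨i0, hi0⟩ := hWne
    obtain ⟨hi0U, hi01⟩ := Finset.mem_filter.1 hi0
    have hi00 := (Finset.mem_erase.1 hi0U).1
    refine Finset.card_le_card_of_injOn (fun a => b * i0 / a) ?_ ?_
    · intro a ha
      obtain ⟨haU, hab⟩ := Finset.mem_filter.1 ha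
      have ha0 := (Finset.mem_erase.1 haU).1
      have h6 := mult_eq_of_eq e ha0 hb0
        (fun c => by rw [← hΨ a ha0, ← hΨ b hb0, hab]) (b * i0)
      rw [mul_div_cancel_left₀ i0 hb0] at h6
      refine Finset.mem_filter.2 ⟨?_, by rw [h6]; exact hi01⟩
      simp [hU, ha0, hb0, hi00]
    · intro a ha a' ha' heq
      have ha0 := (Finset.mem_erase.1 (Finset.mem_filter.1 ha).1).1
      have ha0' := (Finset.mem_erase.1 (Finset.mem_filter.1 ha').1).1
      have h7 : b * i0 / a = b * i0 / a' := heq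
      rw [div_eq_div_iff ha0 ha0'] at h7
      exact (mul_left_cancel₀ (mul_ne_zero hb0 hi00) h7).symm
  have hcol : ∑ ψ ∈ U.image Ψ, Complex.normSq ((ψ : G → ℂ) x) ≤ (p : ℝ) - 1 := by
    have h8 : ∑ ψ : Cfsg.IrrCharacter G, Complex.normSq ((ψ : G → ℂ) x) = p := by
      apply Complex.ofReal_injective
      have h9 := CfsgLib.Char.sum_mul_conj x x
      rw [if_pos (IsConj.refl x), h.cent, card_zpowers' h] at h9
      push_cast
      rw [← h9]
      exact Finset.sum_congr rfl fun ψ _ => by rw [Complex.normSq_eq_conj_mul_self, mul_comm]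
    rw [← h8, ← Finset.add_sum_erase _ _ (Finset.mem_univ (CfsgLib.Char.principalIrr (G := G)))]
    simp only [CfsgLib.Char.principalIrr_apply, map_one]
    rw [add_sub_cancel_left]
    refine Finset.sum_le_sum_of_subset_of_nonneg ?_ fun ψ _ _ => Complex.normSq_nonneg _
    intro ψ hψ
    refine Finset.mem_erase.2 ⟨fun hP => ?_, Finset.mem_univ _⟩
    obtain ⟨a, -, rfl⟩ := Finset.mem_image.1 hψ
    have h10 : (Ψ a : G → ℂ) 1 = 1 := by rw [hP]; rfl
    change (χ : G → ℂ) (1 ^ ex a) = 1 at h10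
    rw [one_pow, hχ, Nat.cast_eq_one] at h10
    omega
  have hT : ∑ a ∈ U, Complex.normSq (∑ k, stdChar p (e k * a)) ≤
      (W.card : ℝ) * ((p : ℝ) - 1) := by
    have h11 : ∀ a ∈ U, Complex.normSq (∑ k, stdChar p (e k * a)) =
        Complex.normSq ((Ψ a : G → ℂ) x) := by
      intro a ha
      have ha0 := (Finset.mem_erase.1 ha).1
      rw [show (Ψ a : G → ℂ) x = (Ψ a : G → ℂ) (x ^ (1 : ZMod p).val) by
        rw [ZMod.val_one, pow_one], hΨ a ha0 1, mul_one]
    rw [Finset.sum_congr rfl h11,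
      ← Finset.sum_fiberwise_of_maps_to (g := Ψ) (t := U.image Ψ)
        (fun a ha => Finset.mem_image_of_mem Ψ ha)]
    calc ∑ ψ ∈ U.image Ψ, ∑ a ∈ U with Ψ a = ψ, Complex.normSq ((Ψ a : G → ℂ) x)
        = ∑ ψ ∈ U.image Ψ, ((U.filter fun a => Ψ a = ψ).card : ℝ) *
            Complex.normSq ((ψ : G → ℂ) x) := by
          refine Finset.sum_congr rfl fun ψ _ => ?_
          rw [Finset.sum_congr rfl (g := fun _ => Complex.normSq ((ψ : G → ℂ) x))
            (fun a ha => by rw [(Finset.mem_filter.1 ha).2]), Finset.sum_const, nsmul_eq_mul]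
      _ ≤ ∑ ψ ∈ U.image Ψ, (W.card : ℝ) * Complex.normSq ((ψ : G → ℂ) x) :=
          Finset.sum_le_sum fun ψ hψ => mul_le_mul_of_nonneg_right
            (by exact_mod_cast hfib ψ hψ) (Complex.normSq_nonneg _)
      _ ≤ _ := by
          rw [← Finset.mul_sum]
          exact mul_le_mul_of_nonneg_left hcol (Nat.cast_nonneg _)
  have hS := sum_normSq e
  rw [← Finset.add_sum_erase _ _ (Finset.mem_univ (0 : ZMod p)), ← hU,
    ← Finset.add_sum_erase _ (fun i => (mult e i : ℝ) ^ 2) (Finset.mem_univ (0 : ZMod p)),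
    ← hU] at hS
  simp only [mul_zero, AddChar.map_zero_eq_one, Finset.sum_const, Finset.card_univ,
    Fintype.card_fin, nsmul_eq_mul, mul_one, Complex.normSq_natCast, hn',
    Nat.cast_sub hp.out.one_le, Nat.cast_one] at hS
  have hsumR : (mult e 0 : ℝ) + ∑ i ∈ U, (mult e i : ℝ) = (p : ℝ) - 1 := by exact_mod_cast hsum
  have hE : (W.card : ℝ) ≤ ∑ i ∈ U, ((mult e i : ℝ) - 1) ^ 2 := by
    calc (W.card : ℝ) = ∑ i ∈ W, (1 : ℝ) := by simp
      _ ≤ ∑ i ∈ W, ((mult e i : ℝ) - 1) ^ 2 := by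
          refine Finset.sum_le_sum fun i hi => ?_
          have h12 := (Finset.mem_filter.1 hi).2
          have h13 : (1 : ℤ) ≤ ((mult e i : ℤ) - 1) ^ 2 := by
            have : ((mult e i : ℤ) - 1) ≠ 0 := by omega
            have := pow_two_pos_of_ne_zero this
            omega
          exact_mod_cast h13
      _ ≤ _ := Finset.sum_le_sum_of_subset_of_nonneg (Finset.filter_subset _ _)
          fun i _ _ => sq_nonneg _
  have hEeq : ∑ i ∈ U, ((mult e i : ℝ) - 1) ^ 2 =
      ∑ i ∈ U, (mult e i : ℝ) ^ 2 - 2 * ∑ i ∈ U, (mult e i : ℝ) + ((p : ℝ) - 1) := by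
    simp only [sub_sq, mul_one, one_pow, Finset.sum_add_distrib, Finset.sum_sub_distrib,
      Finset.sum_const, nsmul_eq_mul, hUc, Nat.cast_sub hp.out.one_le, Nat.cast_one,
      ← Finset.mul_sum]
  have hm0' : 0 ≤ (mult e 0 : ℝ) * ((mult e 0 : ℝ) - 2) := by
    rcases Nat.lt_or_ge (mult e 0) 2 with h14 | h14
    · rw [show mult e 0 = 0 by omega]; simp
    · have : (2 : ℝ) ≤ (mult e 0 : ℝ) := by exact_mod_cast h14
      nlinarith
  have hp3 : (3 : ℝ) ≤ (p : ℝ) := by exact_mod_cast h2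
  rw [show ((p : ℂ) - 1) = (((p : ℝ) - 1 : ℝ) : ℂ) by push_cast; rfl, Complex.normSq_ofReal] at hS
  have hW1 : (1 : ℝ) ≤ (W.card : ℝ) := by exact_mod_cast hWne.card_pos
  nlinarith [hT, hS, hE, hEeq, hsumR, hW1, hp3,
    mul_nonneg (by linarith : (0 : ℝ) ≤ (p : ℝ)) hm0',
    mul_le_mul_of_nonneg_left hE (by linarith : (0 : ℝ) ≤ (p : ℝ))]

end CfsgLib.SelfCentPrime
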