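import Cfsg.Agent.Lib.SelfCentPrime.Degree
import Mathlib.GroupTheory.Abelianization.Defs

/-!
# The determinant of a character of degree p - 1
-/

set_option autoImplicit false

namespace CfsgLib.SelfCentPrime

open scoped Classical
open Subgroup

universe u

variable {G : Type u} [Group G] [Finite G] {p : ℕ} [hp : Fact p.Prime] {x : G}

/-- An element of the normalizer acting on `⟨x⟩` with the full order of the automizer. -/
theorem exists_autGen (h : Hyp p x) (hq : autIndex h ≠ 1) :
    ∃ g : G, g ∈ normalizer ((zpowers x : Subgroup G) : Set G) ∧ g ^ autIndex h = 1 ∧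
      ∀ j, 0 < j → j < autIndex h → g ^ j ∉ zpowers x := by
  set N := normalizer ((zpowers x : Subgroup G) : Set G)
  set φ := (zpowers x).normalizerMonoidHom
  have hC : centralizer ((zpowers x : Subgroup G) : Set G) = zpowers x := by
    conv_lhs => rw [zpowers_eq_closure, centralizer_closure, h.cent]
  have hker : ∀ n : N, φ n = 1 ↔ (n : G) ∈ zpowers x := by
    intro n
    rw [← MonoidHom.mem_ker, normalizerMonoidHom_ker, mem_subgroupOf, hC]
  haveI : IsCyclic (MulAut (zpowers x)) := by
    haveI : IsCyclic (ZMod (Nat.card (zpowers x)))ˣ := by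
      rw [card_zpowers' h]; exact ZMod.isCyclic_units_prime hp.out
    exact (IsCyclic.mulAutMulEquiv (zpowers x)).isCyclic.2 inferInstance
  obtain ⟨⟨a, ha⟩, hgen⟩ := IsCyclic.exists_ofOrder_eq_natCard (α := φ.range)
  obtain ⟨g, rfl⟩ := ha
  have hord : orderOf (φ g) = autIndex h := by
    rw [← orderOf_coe] at hgen
    rw [hgen, ← index_ker]
    have : φ.ker = (zpowers x).subgroupOf N := by
      ext n; rw [MonoidHom.mem_ker, hker, mem_subgroupOf]
    rw [this]; rfl
  have hnot : ∀ j, 0 < j → j < autIndex h → (g : G) ^ j ∉ zpowers x := by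
    intro j hj hjq hmem
    have h1 : φ (g ^ j) = 1 := (hker _).2 (by rw [coe_pow]; exact hmem)
    rw [map_pow] at h1
    exact absurd (Nat.le_of_dvd hj (hord ▸ orderOf_dvd_of_pow_eq_one h1)) (not_le.2 hjq)
  refine ⟨g, g.2, ?_, hnot⟩
  have hpos := autIndex_pos h
  have hgx : (g : G) ^ autIndex h ∈ zpowers x := by
    rw [← coe_pow]
    exact (hker _).1 (by rw [map_pow, ← hord, pow_orderOf_eq_one])
  by_contra h1
  have heq : zpowers ((g : G) ^ autIndex h) = zpowers x := by
    refine eq_of_le_of_card_ge (zpowers_le.2 hgx) ?_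
    rw [card_zpowers' h, Nat.card_zpowers]
    have hd : orderOf ((g : G) ^ autIndex h) ∣ p := by
      have hd0 := Subgroup.orderOf_dvd_natCard _ hgx
      rwa [card_zpowers' h] at hd0
    exact (((Nat.dvd_prime hp.out).1 hd).resolve_left
      (fun h2 => h1 (orderOf_eq_one_iff.1 h2))).ge
  obtain ⟨i, hi⟩ := mem_zpowers_iff.1 (show x ∈ zpowers ((g : G) ^ autIndex h) by
    rw [heq]; exact mem_zpowers x)
  refine hnot 1 one_pos (by omega) ?_
  rw [pow_one]
  apply mem_of_commute h
  exact (congrArg ((g : G) * ·) hi.symm).trans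
    ((((Commute.self_pow (g : G) _).zpow_right i).eq).trans (congrArg (· * (g : G)) hi))

/-- With all multiplicities one, the character vanishes on the normalizer outside `⟨x⟩`. -/
theorem char_eq_zero_of_normalizer (h : Hyp p x) {V : Type*} [AddCommGroup V] [Module ℂ V]
    [FiniteDimensional ℂ V] (ρ : Representation ℂ G V)
    (hfix : ∑ j ∈ Finset.range p, ρ.character (x ^ j) = 0)
    {g : G} (hg : g ∈ normalizer ((zpowers x : Subgroup G) : Set G)) (hgx : g ∉ zpowers x) :
    ρ.character g = 0 := by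
  have hTzero : ∑ j ∈ Finset.range p, ρ (x ^ j) = 0 := by
    obtain ⟨b, μ, hμ, hb⟩ := CfsgLib.Char.exists_eigenbasis ρ x
    rw [h.ord] at hμ
    have hpow : ∀ j k, ρ (x ^ j) (b k) = μ k ^ j • b k := by
      intro j k
      induction j with
      | zero => simp
      | succ j ih =>
        rw [pow_succ', map_mul, Module.End.mul_apply, ih, map_smul, hb, smul_smul, pow_succ]
    have htr : ∀ j, ρ.character (x ^ j) = ∑ k, μ k ^ j :=
      fun j => CfsgLib.Char.trace_eq_sum_of_eigenbasis _ b _ (hpow j)
    have hgeom : ∀ k, ∑ j ∈ Finset.range p, μ k ^ j = if μ k = 1 then (p : ℂ) else 0 := by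
      intro k
      split_ifs with h1
      · simp [h1]
      · rw [geom_sum_eq h1, hμ k, sub_self, zero_div]
    rw [Finset.sum_congr rfl (fun j _ => htr j), Finset.sum_comm,
      Finset.sum_congr rfl (fun k _ => hgeom k), Finset.sum_ite, Finset.sum_const,
      Finset.sum_const_zero, add_zero, nsmul_eq_mul, mul_eq_zero, Nat.cast_eq_zero,
      Nat.cast_eq_zero, Finset.card_eq_zero, Finset.filter_eq_empty_iff] at hfix
    have hne := hfix.resolve_right hp.out.ne_zero
    refine b.ext fun k => ?_
    rw [LinearMap.sum_apply, Finset.sum_congr rfl (fun j _ => hpow j k), ← Finset.sum_smul,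
      hgeom k, if_neg (hne (Finset.mem_univ k)), zero_smul, LinearMap.zero_apply]
  have hconj : ∀ j : ℕ, ρ.character (g * x ^ j) = ρ.character g := by
    intro j
    -- `g * x ^ j` is conjugate to `g` by a power of `x`
    obtain ⟨i, hi⟩ := conj_mem_zpowers h hg
    have hcy : ∃ c ∈ zpowers x, g⁻¹ * c * g * c⁻¹ = x ^ j := by
      have hmem : ∀ c ∈ zpowers x, g⁻¹ * c * g * c⁻¹ ∈ zpowers x := by
        intro c hc
        refine mul_mem ?_ (inv_mem hc)
        have := (mem_normalizer_iff.1 (inv_mem hg) c).1 hc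
        simpa using this
      let f : zpowers x → zpowers x := fun c => ⟨_, hmem c c.2⟩
      have hf : Function.Injective f := by
        intro a b hab
        have h1 : g⁻¹ * (a : G) * g * (a : G)⁻¹ = g⁻¹ * (b : G) * g * (b : G)⁻¹ :=
          congrArg Subtype.val hab
        by_contra hne
        set c : G := (b : G)⁻¹ * (a : G) with hc
        have hcm : c ∈ zpowers x := mul_mem (inv_mem b.2) a.2
        have hcc : g * c = c * g := by
          obtain ⟨i', hi'⟩ := mem_zpowers_iff.1 a.2
          obtain ⟨j', hj'⟩ := mem_zpowers_iff.1 b.2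
          have hab' : Commute (a : G) (b : G) := by
            rw [← hi', ← hj']; exact zpow_mul_comm x i' j'
          have h2 : g⁻¹ * c * g = c := by
            calc g⁻¹ * c * g
                = (g⁻¹ * (b : G) * g)⁻¹ * (g⁻¹ * (a : G) * g) := by rw [hc]; group
              _ = ((g⁻¹ * (b : G) * g * (b : G)⁻¹) * (b : G))⁻¹ *
                    ((g⁻¹ * (a : G) * g * (a : G)⁻¹) * (a : G)) := by group
              _ = c := by rw [h1, hc]; group
          calc g * c = g * (g⁻¹ * c * g) := by rw [h2]
            _ = c * g := by group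
        have hc1 : c ≠ 1 := fun h2 => hne (Subtype.ext (inv_mul_eq_one.1 h2).symm)
        have heq : zpowers c = zpowers x := by
          refine eq_of_le_of_card_ge (zpowers_le.2 hcm) ?_
          rw [card_zpowers' h, Nat.card_zpowers]
          have hd : orderOf c ∣ p := card_zpowers' h ▸ Subgroup.orderOf_dvd_natCard _ hcm
          exact (((Nat.dvd_prime hp.out).1 hd).resolve_left
            (fun h2 => hc1 (orderOf_eq_one_iff.1 h2))).ge
        obtain ⟨i', hi'⟩ := mem_zpowers_iff.1 (show x ∈ zpowers c from heq ▸ mem_zpowers x)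
        refine hgx (mem_of_commute h ?_)
        rw [← hi']
        exact (Commute.zpow_right hcc i').eq
      obtain ⟨c, hc⟩ := (Finite.injective_iff_surjective.1 hf) ⟨x ^ j, npow_mem_zpowers x j⟩
      exact ⟨c, c.2, congrArg Subtype.val hc⟩
    obtain ⟨c, -, hc⟩ := hcy
    rw [← hc, show g * (g⁻¹ * c * g * c⁻¹) = c * g * c⁻¹ by group]
    exact ρ.char_conj g c
  have hsum : ∑ j ∈ Finset.range p, ρ.character (g * x ^ j) = 0 := by
    simp only [Representation.character, map_mul]
    rw [← map_sum, ← Finset.mul_sum, hTzero, mul_zero, map_zero]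
  rw [Finset.sum_congr rfl fun j _ => hconj j, Finset.sum_const, Finset.card_range, nsmul_eq_mul,
    mul_eq_zero, Nat.cast_eq_zero] at hsum
  exact hsum.resolve_left hp.out.ne_zero

/-- An operator of order dividing the even number `k` whose proper powers have trace zero has
determinant `(-1) ^ (d / k)`. -/
theorem det_of_trace_pow_eq_zero {V : Type*} [AddCommGroup V] [Module ℂ V] [FiniteDimensional ℂ V]
    (f : Module.End ℂ V) {k t : ℕ} (hk : Even k) (hk0 : 0 < k) (hf : f ^ k = 1)
    (htr : ∀ j, 0 < j → j < k → LinearMap.trace ℂ V (f ^ j) = 0)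
    (hd : Module.finrank ℂ V = k * t) : LinearMap.det f = (-1) ^ t := by
  obtain ⟨b, μ, hμ, hb⟩ := CfsgLib.Char.exists_eigenbasis_of_pow_eq_one f hk0.ne' hf
  have hdet : LinearMap.det f = ∏ i, μ i := by
    rw [← LinearMap.det_toMatrix b]
    have : LinearMap.toMatrix b b f = Matrix.diagonal μ := by
      ext i j
      rw [LinearMap.toMatrix_apply, hb, map_smul, Finsupp.smul_apply, b.repr_self,
        Finsupp.single_apply, Matrix.diagonal_apply]
      by_cases hij : i = j
      · subst hij; simp
      · simp [hij, Ne.symm hij]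
    rw [this, Matrix.det_diagonal]
  have hpow : ∀ j i, (f ^ j) (b i) = μ i ^ j • b i := by
    intro j i
    induction j with
    | zero => simp
    | succ j ih => rw [pow_succ', Module.End.mul_apply, ih, map_smul, hb, smul_smul, pow_succ]
  obtain ⟨ζ, hζ⟩ : ∃ ζ : ℂ, IsPrimitiveRoot ζ k := ⟨_, Complex.isPrimitiveRoot_exp k hk0.ne'⟩
  set R := Polynomial.nthRootsFinset k (1 : ℂ) with hR
  have hmem : ∀ i, μ i ∈ R := fun i => (Polynomial.mem_nthRootsFinset hk0 1).2 (hμ i)
  have hmult : ∀ ω ∈ R, (Finset.univ.filter fun i => μ i = ω).card = t := by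
    intro ω hω
    have hω1 : ω ^ k = 1 := (Polynomial.mem_nthRootsFinset hk0 1).1 hω
    have hω0 : ω ≠ 0 := fun h0 => by simp [h0, zero_pow hk0.ne'] at hω1
    have h1 : ∑ j ∈ Finset.range k, LinearMap.trace ℂ V (f ^ j) * (ω⁻¹) ^ j = (k * t : ℕ) := by
      rw [Finset.sum_eq_single 0]
      · simp [hd]
      · intro j hj hj0
        rw [htr j (Nat.pos_of_ne_zero hj0) (Finset.mem_range.1 hj), zero_mul]
      · intro h0; exact absurd (Finset.mem_range.2 hk0) h0
    have h2 : ∑ j ∈ Finset.range k, LinearMap.trace ℂ V (f ^ j) * (ω⁻¹) ^ j =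
        ((k * (Finset.univ.filter fun i => μ i = ω).card : ℕ) : ℂ) := by
      simp_rw [CfsgLib.Char.trace_eq_sum_of_eigenbasis _ b _ (hpow _), Finset.sum_mul, ← mul_pow]
      rw [Finset.sum_comm]
      have h3 : ∀ i, ∑ j ∈ Finset.range k, (μ i * ω⁻¹) ^ j = if μ i = ω then (k : ℂ) else 0 := by
        intro i
        split_ifs with he
        · simp [he, mul_inv_cancel₀ hω0]
        · rw [geom_sum_eq (fun h4 => he (by rwa [mul_inv_eq_one₀ hω0] at h4)), mul_pow, hμ i,
            inv_pow, hω1]
          simp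
      rw [Finset.sum_congr rfl fun i _ => h3 i, Finset.sum_ite, Finset.sum_const,
        Finset.sum_const_zero, add_zero, nsmul_eq_mul]
      push_cast
      ring
    rw [h1] at h2
    exact (Nat.eq_of_mul_eq_mul_left hk0 (by exact_mod_cast h2)).symm
  have hprodR : ∏ ω ∈ R, ω = -1 := by
    have h4 := Polynomial.X_pow_sub_one_eq_prod hk0 hζ
    have h5 := congrArg (Polynomial.eval (0 : ℂ)) h4
    rw [Polynomial.eval_prod] at h5
    simp only [Polynomial.eval_sub, Polynomial.eval_pow, Polynomial.eval_X, Polynomial.eval_one,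
      Polynomial.eval_C, zero_pow hk0.ne', zero_sub] at h5
    rw [Finset.prod_neg, ← hR, hζ.card_nthRootsFinset, hk.neg_one_pow, one_mul] at h5
    exact h5.symm
  rw [hdet, ← Finset.prod_fiberwise_of_maps_to (g := μ) (t := R) (fun i _ => hmem i),
    ← hprodR, ← Finset.prod_pow]
  refine Finset.prod_congr rfl fun ω hω => ?_
  rw [Finset.prod_congr rfl (g := fun _ => ω) (fun i hi => (Finset.mem_filter.1 hi).2),
    Finset.prod_const, hmult ω hω]

theorem even_index_commutator_of_degree (h : Hyp p x) (hp2 : p ≠ 2)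
    (ht : ¬ Even (Nat.card {C : ConjClasses G // ∃ g ∈ C.carrier, orderOf g = p}))
    (χ : Cfsg.IrrCharacter G) (hχ : (χ : G → ℂ) 1 = ((p - 1 : ℕ) : ℂ)) :
    Even (commutator G).index := by
  set t := Nat.card {C : ConjClasses G // ∃ g ∈ C.carrier, orderOf g = p} with htdef
  have htq := card_classes_mul_autIndex h
  rw [← htdef] at htq
  have hqe : Even (autIndex h) := by
    rcases Nat.even_mul.1 (htq ▸ Nat.Odd.sub_odd (hp.out.odd_of_ne_two hp2) odd_one) with h1 | h1
    · exact absurd h1 ht
    · exact h1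
  have hq1 : autIndex h ≠ 1 := fun h1 => by simp [h1] at hqe
  obtain ⟨g, hgN, hgq, hgn⟩ := exists_autGen h hq1
  have hqpos := autIndex_pos h
  -- x is inverted by a power of g
  have hinv : IsConj x x⁻¹ := by
    obtain ⟨r, hr⟩ := hqe
    have hrpos : 0 < r := by omega
    set w := g ^ r with hw
    have hwN : w ∈ normalizer ((zpowers x : Subgroup G) : Set G) := pow_mem hgN r
    have hwx : w ∉ zpowers x := hgn r hrpos (by omega)
    have hw2 : w * w = 1 := by rw [hw, ← pow_add, ← hr, hgq]
    obtain ⟨i, hi⟩ := conj_mem_zpowers h hwN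
    have h1 : x ^ (i * i) = x := by
      calc x ^ (i * i) = (x ^ i) ^ i := zpow_mul x i i
        _ = w * (x ^ i) * w⁻¹ := by rw [hi, conj_zpow, hi]
        _ = (w * w) * x * (w * w)⁻¹ := by rw [hi]; group
        _ = x := by rw [hw2]; simp
    have h2 : ((i : ZMod p)) * i = 1 := by
      have h3 : ((i * i : ℤ) : ZMod p) = ((1 : ℤ) : ZMod p) := by
        rw [ZMod.intCast_eq_intCast_iff, ← h.ord, ← zpow_eq_zpow_iff_modEq, h1, zpow_one]
      push_cast at h3
      exact h3
    rcases mul_self_eq_one_iff.1 h2 with h4 | h4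
    · exfalso
      apply hwx
      apply mem_of_commute h
      have h5 : x ^ i = x ^ (1 : ℤ) := by
        rw [zpow_eq_zpow_iff_modEq, h.ord, ← ZMod.intCast_eq_intCast_iff, h4]; norm_num
      rw [zpow_one, hi] at h5
      calc w * x = w * x * w⁻¹ * w := by group
        _ = x * w := by rw [h5]
    · refine isConj_iff.2 ⟨w, ?_⟩
      rw [← hi, ← zpow_neg_one, zpow_eq_zpow_iff_modEq, h.ord, ← ZMod.intCast_eq_intCast_iff, h4]
      norm_num
  obtain ⟨n, e, hn, he⟩ := exists_mult χ h.ord
  obtain ⟨hm0, hm1⟩ := mult_eq_one hp2 h hinv χ hχ e hn he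
  obtain ⟨m, ρ, -, hρ⟩ := χ.2
  have hfix : ∑ j ∈ Finset.range p, ρ.character (x ^ j) = 0 := by
    rw [hρ, Finset.sum_congr rfl fun j _ => he j, Finset.sum_comm]
    refine Finset.sum_eq_zero fun k _ => ?_
    have hk : e k ≠ 0 := by
      intro hk0
      have : mult e 0 ≠ 0 := Finset.card_ne_zero.2 ⟨k, by simp [hk0]⟩
      exact this hm0
    have hz : stdChar p (e k) ≠ 1 := fun h1 => by
      have h2 := sum_stdChar_mul (p := p) (e k)
      rw [if_neg hk] at h2
      have h3 : ∀ a : ZMod p, stdChar p (e k * a) = 1 := by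
        intro a; rw [← ZMod.natCast_zmod_val a, ← stdChar_pow, h1, one_pow]
      simp [h3] at h2
      exact hp.out.ne_zero h2
    simp_rw [← stdChar_pow]
    rw [geom_sum_eq hz, stdChar_pow, ZMod.natCast_self, mul_zero, AddChar.map_zero_eq_one,
      sub_self, zero_div]
  have hm : Module.finrank ℂ (Fin m → ℂ) = autIndex h * t := by
    rw [mul_comm, htq]
    have := hχ
    rw [← hρ, Representation.char_one] at this
    exact_mod_cast this
  have hdet : LinearMap.det (ρ g) = -1 := by
    rw [det_of_trace_pow_eq_zero (ρ g) hqe hqpos (by rw [← map_pow, hgq, map_one]) ?_ hm,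
      (Nat.not_even_iff_odd.1 ht).neg_one_pow]
    intro j hj hjq
    rw [← map_pow]
    exact char_eq_zero_of_normalizer h ρ hfix (pow_mem hgN j) (hgn j hj hjq)
  rw [← Nat.not_odd_iff_even]
  intro hodd
  let L : G →* ℂˣ := MonoidHom.toHomUnits ((LinearMap.det).comp ρ)
  have h5 : g ^ (commutator G).index ∈ L.ker :=
    Abelianization.commutator_subset_ker L (Subgroup.pow_index_mem _ g)
  rw [MonoidHom.mem_ker, Units.ext_iff, map_pow, Units.val_pow_eq_pow_val, Units.val_one] at h5
  have h6 : (L g : ℂ) = -1 := hdet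
  rw [h6, hodd.neg_one_pow] at h5
  norm_num at h5

end CfsgLib.SelfCentPrime
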